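import Cfsg.Agent.Lib.PermAut.Check
import Cfsg.Agent.Lib.PermAut.J2.Gens
import Cfsg.Agent.Lib.PermAut.J2.Orbits

/-!
Generated data: the certificate for the automorphisms.
-/

set_option autoImplicit false
set_option maxRecDepth 400000

namespace CfsgLib.PermAut.J2

/-- The certificate. -/
def cert : PermAut.Data where
  n := 100
  p := 7
  x := 450972504642870232928667684332452607304266273931904760898974513303072573773945373418325745715381099236782759965351156062672097005110115533072399085958216110227499703305946077279736121438640069472750723577886924964296898885194074173258863190
  y := 2484059694352152661930625745649072210556019248264439145423324724285426943988821004313419081076307820278566742518646500377667452286375004400110483088270430365705283521400806928349017600512313445051129849607063984613574455882553792585334391040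
  pows := [2588655999132934122181803592540829401478235741461634534425884386008017778261719400438093571377185951795686623037610591646536207750197451012513534182007527469183024343517905167456239111873246185932456637713715053908893521621807855268498899200, 450972504642870232928667684332452607304266273931904760898974513303072573773945373418325745715381099236782759965351156062672097005110115533072399085958216110227499703305946077279736121438640069472750723577886924964296898885194074173258863190, 1129919640519584309732996353217779943505930697285943505566559140760341011375240292781693032352434355454271040326054073829283739742312465418721987544765535253845144830881271177139979584436665936571302774023152146536193085287261873273577749250, 998758945318956283786457140748508685784878375530672311165590856072122632001589469835279873057539116796646916723193162838437580064204479622905917662674854036497452204985473650508438123072834858843504555851987325584906097192141683072624099360, 2352480048704685278900523612114592795054038222653310905414755625113270711381278977447079878963989060612709309489225930615082599072439340905641561026002227652316116233583973891955966881840824129206896649490493553949671126744887848663460304385, 1933107965458825591957655179547542861740726264491254879871877642879309344618385806778050680570152784083530589537391475212130455964227422707307413199058835469397001627927214748866919303163318405411512918782123114248897932397605533521564140050, 941485955209838242269234837835615239486869921209778592902507364786946896716909660630156360284691623696129094727308612325321877594243172478748886307478383044219232695698094849490307117490987662657286781705854033998612334410668938192982777915]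
  reps := reps
  nR := 45
  tree := tree
  sorted := sorted
  centGens := centGens
  ks := [1]
  conjs := [(0, 0), (2588655999132934122181803592540829401478235741461634534425884386008017778261719400438093571377185951795686623037610591646536207750197451012513534182007527469183024343517905167456239111873246185932456637713715053908893521621807855268498899200, 1), (2477232697309294785863356226863015681934227348506232263847086158609645283753782996825369339368472050311198422595184993923183101535577637461422138013256374339897199528313436424349188101051719215768539249326485814619289742159267899112352719645, 1), (1958940702131946599427772825059578842311665222682240635435117842338804564368420116142817111195343817679712361317885923133687354371170166075578683191806875305541754283946052945298426551798070687055538936395032034674211441585891024839916069905, 1), (183859908572601780629333209419554517900980924398344559500151672290435754531751074000137735432605019193714864720041567787914483555617974018923178104709089909532912460813863228994347494312609407282545156605232417173989881360346051410201361670, 1), (56579090807933314334038934792698131122288130587616345275147577730788731810220141122868590747480708027892033418045196844231527730319126765490127615428443953620648568046825605596330105563388465963439858619432842637415138327772125815572021255, 1), (1464461172604195415446742968420543106761608647698049753530363077199866778766350691222104517916778186594231620846472354615856320981333615172928210572489544317094195068339241084225900170737177103163690941231369119692966692148096015948463103775, 1)]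
  rels := [
    ([false, true, false, false, true, false], 5),
    ([true, false, true, false, true, false], 5),
    ([false, true, false, false, false, true], 6),
    ([true, false, false, false, false, false, true, false, true, false, false], 8)]
  goods := [(1, 0), (1, 22)]
  bad := bad
  e := 7
  sylGens := sylGens
  sylElts := sylElts

def sep : List (ℕ × List Bool) := [
  (1, [false, false, false, true, false, false, false, false]),
  (2, [false, false, false, true, false, false, false, false]),
  (3, [false, true, false, false, false, false, false, false]),
  (4, [false, false, true, false, false, false, false, false]),
  (5, [false, false, false, true, false, false, false, false]),
  (6, [true]),
  (7, [false, false, true, false, false, false, false, false]),
  (8, [true]),
  (9, [false, false, true, false, false, false, false, false]),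
  (10, [false, false, true, false, false, false, false, false]),
  (11, [true]),
  (12, [true]),
  (13, [true]),
  (14, [true]),
  (15, [true]),
  (16, [true]),
  (17, [false, false, true, false, false, false, false, false]),
  (18, [false, true, false, false, false, false, false, false]),
  (19, [true]),
  (20, [true]),
  (21, [false, true, false, false, false, false, false, false]),
  (22, [false, false, true, false, false, false, false, false]),
  (23, [false]),
  (24, [true]),
  (25, [true]),
  (26, [true]),
  (27, [true]),
  (28, [true]),
  (29, [true]),
  (30, [true]),
  (31, [true]),
  (32, [true]),
  (33, [true]),
  (34, [true]),
  (35, [true]),
  (36, [true]),
  (37, [true]),
  (38, [false, false, false, true, false, false, false, false]),
  (39, [true]),
  (40, [false, true, false, false, false, false, false, false]),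
  (41, [true]),
  (42, [false, false, true, false, false, false, false, false]),
  (43, [true]),
  (44, [false, false, true, false, false, false, false, false]),
  (45, [true]),
  (46, [true]),
  (47, [true]),
  (48, [true]),
  (49, [false, false, true, false, false, false, false, false]),
  (50, [true]),
  (51, [true]),
  (52, [true]),
  (53, [true]),
  (54, [true]),
  (55, [true]),
  (56, [true]),
  (57, [false, false, true, false, false, false, false, false]),
  (58, [false, false, true, false, false, false, false, false]),
  (59, [true]),
  (60, [true]),
  (61, [true]),
  (62, [true]),
  (63, [true]),
  (64, [true]),
  (65, [true]),
  (66, [true]),
  (67, [true]),
  (68, [true]),
  (69, [true]),
  (70, [true]),
  (71, [true]),
  (72, [true]),
  (73, [true]),
  (74, [true]),
  (75, [true]),
  (76, [true]),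
  (77, [true]),
  (78, [true]),
  (79, [true]),
  (80, [true]),
  (81, [true]),
  (82, [true]),
  (83, [true]),
  (84, [true]),
  (85, [false]),
  (86, [true]),
  (87, [true]),
  (88, [true]),
  (89, [true]),
  (90, [true]),
  (91, [true]),
  (92, [true]),
  (93, [true]),
  (94, [true]),
  (95, [true]),
  (96, [true]),
  (97, [true]),
  (98, [true]),
  (99, [true])]

def spread : List (List Bool) := [
  [],
  [false, false, false, false],
  [false, false],
  [false, false, false, false, true, false, false, true, false, false, true, false, true, false],
  [false, true, false, true, false, true, false, true, false],
  [false, true, false, false, false, false, true, false, true, false],
  [false, false, false, false, true, false, false, true, false, true, false],
  [false, false, false, false, false, false, true, false, true, false],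
  [false, false, true, false, false, false],
  [false, true, false, true, false, false, false, true, false, false, false],
  [false, false, true, false, false, true, false, false, true, false, true, false],
  [false, false, false, true, false, false, false, false, false, false],
  [false, false, true, false, false, true, false, false, false, true, false],
  [false, true, false, false, false, false, true, false, false, true, false, false, false],
  [true, false, false, true, false, false, false],
  [true, false, false, false, false, true, false, false, true, false, false, false],
  [false, false, true, false, true, false],
  [false, true, false, false, false, true, false, false, true, false],
  [false, false, false, false, false],
  [false, true, false, true, false, false, false, false, false, false],
  [true, false, false, false],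
  [false, false, true, false, false, false, false, true, false, true, false],
  [false, true, false, false, false, true, false, true, false],
  [true, false, true, false, false, false, false, true, false, false, true, false, false, false],
  [false, false, false, false, true, false, false, true, false, false, false],
  [true, false, false, true, false, true, false],
  [false, true, false, false, true, false, false, false, true, false],
  [false, false, false, true, false, true, false, true, false, true, false],
  [false, true, false, false, true, false, false, true, false, true, false],
  [false, false, true, false],
  [true, false, false, false, true, false, false, false, false, false, false],
  [true, false, false, true, false],
  [false, false, false],
  [true, false, true, false, true, false, false, true, false, false, false],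
  [true, false, false, false, true, false],
  [false, false, false, true, false],
  [false, true, false, true, false, false, true, false, false, false],
  [false, false, true, false, false, false, true, false, false, false],
  [false, true, false, false, true, false, false, false, true, false, false, false],
  [false, true, false, false, false, true, false],
  [false, false, false, true, false, false, true, false, false, true, false, true, false],
  [false, false, false, false, true, false, false, false],
  [false, false, true, false, false, true, false, false, false],
  [true, false, false, true, false, false, false, true, false, false, false],
  [false, false, false, true, false, false, true, false, false, false, true, false],
  [true, false, true, false, false, false],
  [true, false, false, true, false, false, true, false, true, false],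
  [true, false, false, false, true, false, true, false],
  [false, true, false, false, false],
  [false, true, false, false, false, true, false, false, true, false, false, false],
  [false, false, false, true, false, true, false],
  [false, false, true, false, false, true, false],
  [false, true, false, false, true, false, true, false],
  [true, false, false, false, false, false, false],
  [true, false, true, false],
  [false, true, false, false, false, true, false, false, false],
  [false, false, true, false, false, true, false, true, false],
  [false, false, false, false, false, true, false, false, false],
  [false, false, false, false, false, true, false, false, true, false],
  [false, false, false, false, false, false],
  [false, false, true, false, false, false, false, false, false],
  [true, false, false, true, false, false, true, false],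
  [false, true, false],
  [true, false, true, false, false, false, true, false, false, false],
  [false, false, false, false, false, true, false, true, false],
  [false, false, false, true, false, false, true, false, false, false],
  [false, true, false, false, true, false, false, false],
  [true, false, true, false, true, false],
  [true, false, true, false, true, false, true, false],
  [false, false, true, false, false, false, true, false],
  [true, false, false, false, true, false, false, true, false, false, false],
  [true, false, false, false, false, false, true, false, true, false],
  [true, false, false, true, false, false, false, true, false],
  [false, true, false, true, false, true, false],
  [true, false, true, false, false, true, false, false, false],
  [true, false],
  [true, false, false, false, false, true, false],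
  [false, false, false, false, false, false, true, false, false, false],
  [false, false, false, false, true, false, true, false],
  [false, true, false, true, false],
  [false, false, false, false, true, false, false, false, true, false, false, false],
  [true, false, false, false, true, false, false, false],
  [false, true, false, false, true, false],
  [false, false, false, false, false, true, false, false, true, false, true, false],
  [false, false, false, true, false, false, false],
  [true, false, false, false, false, true, false, false, false, true, false, false, false],
  [false],
  [false, false, false, false, true, false, false, true, false],
  [true, false, true, false, false, true, false],
  [false, false, false, false, true, false],
  [false, false, true, false, false, true, false, false, false, true, false, false, false],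
  [true, false, false, false, false, true, false, true, false],
  [false, true, false, false, false, false, false, false],
  [false, false, false, true, false, false, true, false, true, false],
  [false, false, true, false, true, false, true, false, true, false],
  [false, false, false, true, false, false, true, false],
  [true, false, true, false, false, false, false, false, false],
  [true, false, false, false, true, false, false, true, false, true, false],
  [false, false, false, true, false, false, false, true, false, false, false],
  [true, false, false, false, true, false, false, true, false]]

end CfsgLib.PermAut.J2
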