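import Cfsg.Agent.Lib.PermAut.J2.Cert

/-!
Kernel checks of the certificate for the automorphisms of the simple group of degree 100 of order 604800.
-/

set_option autoImplicit false

namespace CfsgLib.PermAut.J2

open CfsgLib.Comp

/-- Membership test. -/
noncomputable def memH (c : ℕ) : Bool := PermCode.okb 100 c && PermCode.sift 100 genChain c

/-- The group. -/
noncomputable def grp : Subgroup (Equiv.Perm (Fin 100)) := PermCode.span 100 genGens

theorem memH_spec (c : ℕ) (h : memH c = true) :
    PermCode.Ok 100 c ∧ PermCode.val 100 c ∈ grp := by
  rw [memH, Bool.and_eq_true] at h
  exact ⟨PermCode.ok_of_okb h.1, PermCode.mem_span gen_check h.1 h.2⟩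

theorem base_check : PermAut.baseOk cert memH = true := by decide +kernel

theorem tree_check : PermAut.treeOk cert = true := by decide +kernel

theorem classes_check : PermAut.classesOk cert memH = true := by decide +kernel

theorem syl_check' : PermAut.sylOk cert memH = true := by decide +kernel

theorem class_check : PermAut.classOk cert memH 1920 604800 = true := by decide +kernel

theorem pairs_check : PermAut.pairsOk cert = true := by decide +kernel

theorem gens_mem : (memH g1 && memH g2) = true := by decide +kernel

end CfsgLib.PermAut.J2
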