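import Cfsg.Agent.Lib.Comp.PermChain

/-!
Generated data: transposition factorisations and images under the outer element.
-/

set_option autoImplicit false

namespace CfsgLib.PermAut.J2

def outerImg : ℕ × ℕ := (1097843540867361390880999831109961778683192064137941361823289004384786129573154309942544778773853738120744916235078817837816219203613888836436856247398527521596730179075127685755190564239062666450955916473321291552860595963386532880583234635, 1700302414043284212947987641807105350018281896309971935749840675506678565079072302757303319986013475094930133059005917228636820226986642409421177502648039073099571514791532964556128043589350102004804673131262876750813886855045952600163877120)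

def outerSwaps : List (ℕ × ℕ) := [(2, 5), (5, 15), (15, 23), (23, 10), (10, 13), (13, 6), (6, 7), (3, 19), (19, 32), (32, 35), (35, 34), (34, 11), (11, 8), (8, 4), (9, 31), (31, 33), (33, 25), (12, 21), (21, 24), (24, 28), (14, 17), (17, 26), (26, 29), (29, 30), (30, 18), (18, 20), (20, 16), (22, 27), (37, 48), (48, 69), (69, 99), (99, 90), (90, 96), (96, 81), (81, 46), (38, 59), (59, 73), (73, 86), (86, 75), (75, 50), (50, 41), (41, 49), (39, 40), (40, 53), (53, 66), (66, 47), (47, 42), (42, 68), (68, 60), (43, 45), (45, 67), (67, 63), (63, 92), (92, 83), (83, 64), (64, 51), (44, 74), (74, 77), (77, 52), (54, 56), (56, 57), (57, 79), (79, 93), (93, 84), (84, 76), (76, 55), (58, 72), (72, 65), (65, 71), (71, 89), (89, 95), (95, 80), (80, 61), (62, 78), (78, 70), (70, 98), (98, 85), (85, 91), (91, 97), (97, 82), (88, 94)]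

def xSwaps : List (ℕ × ℕ) := [(0, 86), (86, 2), (2, 32), (32, 1), (1, 18), (18, 59), (3, 15), (15, 13), (13, 46), (46, 28), (28, 10), (10, 40), (4, 94), (94, 27), (27, 70), (70, 49), (49, 33), (33, 68), (5, 21), (21, 72), (72, 26), (26, 12), (12, 44), (44, 91), (6, 83), (83, 61), (61, 25), (25, 52), (52, 56), (56, 93), (7, 54), (54, 79), (79, 16), (16, 50), (50, 78), (78, 64), (8, 84), (84, 41), (41, 57), (57, 77), (77, 20), (20, 48), (9, 71), (71, 53), (53, 92), (92, 60), (60, 11), (11, 63), (14, 66), (66, 42), (42, 65), (65, 24), (24, 30), (30, 76), (17, 43), (43, 38), (38, 90), (90, 74), (74, 36), (36, 99), (19, 34), (34, 39), (39, 69), (69, 47), (47, 22), (22, 96), (29, 35), (35, 89), (89, 67), (67, 73), (73, 75), (75, 62), (31, 82), (82, 51), (51, 95), (95, 87), (87, 58), (58, 45), (37, 98), (98, 80), (80, 97), (97, 88), (88, 81), (81, 55)]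

def ySwaps : List (ℕ × ℕ) := [(6, 12), (8, 14), (11, 30), (13, 23), (15, 24), (16, 25), (19, 26), (20, 32), (27, 28), (29, 31), (33, 36), (34, 35), (37, 43), (39, 41), (45, 48), (46, 56), (47, 50), (51, 61), (52, 60), (53, 59), (54, 62), (55, 63), (64, 71), (65, 70), (66, 74), (67, 79), (68, 73), (69, 72), (75, 86), (76, 89), (77, 87), (78, 91), (80, 85), (81, 84), (82, 88), (83, 90), (92, 96), (93, 97), (94, 98), (95, 99)]

end CfsgLib.PermAut.J2
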